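import Mathlib

/-! Spreading out isomorphisms of local rings of finitely presented algebras. -/

universe u

namespace Groth.Agent.SpreadIso

variable {R S : Type u} [CommRing R] [CommRing S] [Algebra R S]

/-- Restriction between localisations away from elements. -/
noncomputable def res {g h : S} (hgh : g ∣ h) : Localization.Away g →ₐ[S] Localization.Away h :=
  IsLocalization.liftAlgHom (M := Submonoid.powers g) (f := Algebra.ofId S (Localization.Away h)) (by
    rintro ⟨_, n, rfl⟩
    show IsUnit (algebraMap S (Localization.Away h) (g ^ n))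
    rw [map_pow]
    exact (isUnit_of_dvd_unit (map_dvd _ hgh) (IsLocalization.Away.algebraMap_isUnit h)).pow n)

theorem algebraMap_isUnit_of_dvd {g h : S} (hgh : g ∣ h) : IsUnit (algebraMap S (Localization.Away h) g) :=
  isUnit_of_dvd_unit (map_dvd _ hgh) (IsLocalization.Away.algebraMap_isUnit h)

theorem res_res {g h k : S} (hgh : g ∣ h) (hhk : h ∣ k) (x : Localization.Away g) :
    res hhk (res hgh x) = res (hgh.trans hhk) x :=
  DFunLike.congr_fun (IsLocalization.algHom_ext (Submonoid.powers g) (Algebra.ext_id _ _ _) :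
    (res hhk).comp (res hgh) = res (hgh.trans hhk)) x

theorem res_self {g : S} (x : Localization.Away g) : res (dvd_refl g) x = x :=
  DFunLike.congr_fun (IsLocalization.algHom_ext (Submonoid.powers g) (Algebra.ext_id _ _ _) :
    res (dvd_refl g) = AlgHom.id S _) x

variable (q : Ideal S) [q.IsPrime]

/-- The map to the local ring. -/
noncomputable def toQ {g : S} (hg : g ∉ q) : Localization.Away g →ₐ[S] Localization.AtPrime q :=
  IsLocalization.liftAlgHom (M := Submonoid.powers g) (f := Algebra.ofId S (Localization.AtPrime q)) (by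
    rintro ⟨_, n, rfl⟩
    show IsUnit (algebraMap S (Localization.AtPrime q) (g ^ n))
    rw [map_pow]
    exact (IsLocalization.map_units (Localization.AtPrime q) (⟨g, hg⟩ : q.primeCompl)).pow n)

theorem toQ_res {g h : S} (hgh : g ∣ h) (hg : g ∉ q) (hh : h ∉ q) (x : Localization.Away g) :
    toQ q hh (res hgh x) = toQ q hg x :=
  DFunLike.congr_fun (IsLocalization.algHom_ext (Submonoid.powers g) (Algebra.ext_id _ _ _) :
    (toQ q hh).comp (res hgh) = toQ q hg) x

theorem exists_res_eq {g : S} (hg : g ∉ q) {x y : Localization.Away g} (h : toQ q hg x = toQ q hg y) :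
    ∃ (k : S) (hk : g ∣ k), k ∉ q ∧ res hk x = res hk y := by
  obtain ⟨⟨a, ⟨_, n, rfl⟩⟩, ha⟩ := IsLocalization.surj (Submonoid.powers g) (x - y)
  have h0 : algebraMap S (Localization.AtPrime q) a = 0 := by
    have := congrArg (toQ q hg) ha
    rw [map_mul, map_sub, sub_eq_zero.mpr h, zero_mul, AlgHom.commutes] at this
    exact this.symm
  obtain ⟨⟨c, hc⟩, hca⟩ := (IsLocalization.map_eq_zero_iff q.primeCompl _ a).mp h0
  refine ⟨g * c, dvd_mul_right g c, q.primeCompl.mul_mem hg hc, ?_⟩
  have ha' := congrArg (res (dvd_mul_right g c)) ha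
  rw [map_mul, map_sub, AlgHom.commutes, AlgHom.commutes] at ha'
  have h1 : algebraMap S (Localization.Away (g * c)) a = 0 := by
    apply (algebraMap_isUnit_of_dvd (dvd_mul_left c g)).mul_right_eq_zero.mp
    rw [← map_mul]
    change algebraMap S (Localization.Away (g * c)) (c * a) = 0
    rw [show c * a = 0 from hca, map_zero]
  rw [h1] at ha'
  rw [← sub_eq_zero]
  refine IsUnit.mul_left_eq_zero ?_ |>.mp ha'
  show IsUnit (algebraMap S (Localization.Away (g * c)) (g ^ n))
  rw [map_pow]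
  exact (algebraMap_isUnit_of_dvd (dvd_mul_right g c)).pow n

theorem exists_res_isUnit {g : S} (hg : g ∉ q) {x : Localization.Away g} (h : IsUnit (toQ q hg x)) :
    ∃ (k : S) (hk : g ∣ k), k ∉ q ∧ IsUnit (res hk x) := by
  obtain ⟨⟨a, ⟨_, n, rfl⟩⟩, ha⟩ := IsLocalization.surj (Submonoid.powers g) x
  have haq : a ∉ q := by
    have := congrArg (toQ q hg) ha
    rw [map_mul, AlgHom.commutes, AlgHom.commutes] at this
    have hu : IsUnit (algebraMap S (Localization.AtPrime q) a) :=
      this ▸ h.mul (IsLocalization.map_units (Localization.AtPrime q)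
        (⟨g ^ n, q.primeCompl.pow_mem hg n⟩ : q.primeCompl))
    exact (IsLocalization.AtPrime.isUnit_to_map_iff (Localization.AtPrime q) q a).mp hu
  refine ⟨g * a, dvd_mul_right g a, q.primeCompl.mul_mem hg haq, ?_⟩
  have ha' := congrArg (res (dvd_mul_right g a)) ha
  rw [map_mul, AlgHom.commutes, AlgHom.commutes] at ha'
  exact (IsUnit.mul_iff.mp (ha' ▸ algebraMap_isUnit_of_dvd (dvd_mul_left a g))).1

variable {A : Type u} [CommRing A] [Algebra R A]

/-- Homomorphisms to the local ring spread out. -/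
theorem exists_lift [Algebra.FinitePresentation R A] (φ : A →ₐ[R] Localization.AtPrime q) :
    ∃ (g : S) (hg : g ∉ q) (ψ : A →ₐ[R] Localization.Away g), ∀ a, toQ q hg (ψ a) = φ a := by
  classical
  obtain ⟨n, π, hπ, ⟨s, hs⟩⟩ := Algebra.FinitePresentation.out (R := R) (A := A)
  choose ab hab using fun i => IsLocalization.surj q.primeCompl (φ (π (MvPolynomial.X i)))
  let t : S := ∏ i, ((ab i).2 : S)
  have ht : t ∉ q := Submonoid.prod_mem q.primeCompl fun i _ => (ab i).2.2
  have hx : ∀ i, ∃ x : Localization.Away t, toQ q ht x = φ (π (MvPolynomial.X i)) := by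
    intro i
    have hu : IsUnit (algebraMap S (Localization.Away t) ((ab i).2 : S)) :=
      algebraMap_isUnit_of_dvd (Finset.dvd_prod_of_mem _ (Finset.mem_univ i))
    refine ⟨algebraMap S _ (ab i).1 * ((hu.unit⁻¹ : _ˣ) : Localization.Away t), ?_⟩
    apply (IsLocalization.map_units (Localization.AtPrime q) (ab i).2).mul_right_cancel
    rw [hab, ← (toQ q ht).commutes ((ab i).2 : S), ← map_mul, mul_assoc, IsUnit.val_inv_mul, mul_one,
      AlgHom.commutes]
  choose x hx using hx
  let ψ₀ : MvPolynomial (Fin n) R →ₐ[R] Localization.Away t := MvPolynomial.aeval x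
  have hψ₀ : ∀ P, toQ q ht (ψ₀ P) = φ (π P) := by
    have : ((toQ q ht).restrictScalars R).comp ψ₀ = φ.comp π :=
      MvPolynomial.algHom_ext fun i => by simpa [ψ₀] using hx i
    exact fun P => DFunLike.congr_fun this P
  have hrel : ∀ P : s, ∃ (k : S) (hk : t ∣ k), k ∉ q ∧ res hk (ψ₀ P) = res hk 0 := fun P =>
    exists_res_eq q ht (by
      rw [hψ₀, show π (P : MvPolynomial (Fin n) R) = 0 from (hs ▸ Ideal.subset_span P.2 : (P : MvPolynomial (Fin n) R) ∈ RingHom.ker π.toRingHom),
        map_zero, map_zero])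
  choose k hk hkq hk0 using hrel
  let g : S := t * ∏ P, k P
  have hg : g ∉ q := q.primeCompl.mul_mem ht (Submonoid.prod_mem q.primeCompl fun P _ => hkq P)
  let ψ₁ : MvPolynomial (Fin n) R →ₐ[R] Localization.Away g :=
    ((res (dvd_mul_right t (∏ P, k P))).restrictScalars R).comp ψ₀
  have hker : RingHom.ker π.toRingHom ≤ RingHom.ker ψ₁.toRingHom := by
    rw [← hs]
    refine Submodule.span_le.mpr fun P hP => ?_
    have hd : k ⟨P, hP⟩ ∣ g := (Finset.dvd_prod_of_mem k (Finset.mem_univ _)).mul_left t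
    show res (dvd_mul_right t (∏ P, k P)) (ψ₀ P) = 0
    rw [← res_res (hk ⟨P, hP⟩) hd, hk0 ⟨P, hP⟩, map_zero, map_zero]
  let ψ : A →ₐ[R] Localization.Away g := AlgHom.liftOfSurjective π hπ ψ₁ hker
  refine ⟨g, hg, ψ, fun a => ?_⟩
  obtain ⟨P, rfl⟩ := hπ a
  rw [AlgHom.liftOfSurjective_apply]
  show toQ q hg (res (dvd_mul_right t (∏ P, k P)) (ψ₀ P)) = _
  rw [toQ_res q _ ht hg, hψ₀]

theorem exists_eq [Algebra.FiniteType R A] {g : S} (hg : g ∉ q) (ψ₁ ψ₂ : A →ₐ[R] Localization.Away g)
    (h : ∀ a, toQ q hg (ψ₁ a) = toQ q hg (ψ₂ a)) :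
    ∃ (k : S) (hk : g ∣ k), k ∉ q ∧ ∀ a, res hk (ψ₁ a) = res hk (ψ₂ a) := by
  classical
  obtain ⟨s, hs⟩ : (⊤ : Subalgebra R A).FG := Algebra.FiniteType.out
  choose k hk hkq hk0 using fun a : s => exists_res_eq q hg (h a)
  refine ⟨g * ∏ a, k a, dvd_mul_right _ _, q.primeCompl.mul_mem hg (Submonoid.prod_mem q.primeCompl fun P _ => hkq P), ?_⟩
  have : ((res (dvd_mul_right g (∏ a, k a))).restrictScalars R).comp ψ₁ =
      ((res (dvd_mul_right g (∏ a, k a))).restrictScalars R).comp ψ₂ := by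
    refine AlgHom.ext_of_adjoin_eq_top hs fun a ha => ?_
    have hd : k ⟨a, ha⟩ ∣ g * ∏ a, k a := (Finset.dvd_prod_of_mem k (Finset.mem_univ _)).mul_left g
    show res (dvd_mul_right g (∏ a, k a)) (ψ₁ a) = res (dvd_mul_right g (∏ a, k a)) (ψ₂ a)
    rw [← res_res (hk ⟨a, ha⟩) hd, hk0 ⟨a, ha⟩, res_res]
  exact fun a => DFunLike.congr_fun this a

end Groth.Agent.SpreadIso
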